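import Cfsg.Agent.H61.M24.Count
import Cfsg.Agent.S0293
import Cfsg.Agent.S0296

/-!
Groups of type M(24): the components of the commuting graph on the common neighbours of a non-commuting pair,
and connectedness of the commuting graph on the members not commuting with a given one.
-/

set_option autoImplicit false

namespace Cfsg.Agent.H33.Fi24Rec

open Cfsg.Agent.H93 Cfsg.Agent.H61.M24

variable {G : Type*} [Group G] {D : Set G}

/-- joined by commuting common neighbours of `a` and `z` -/
def Reach (D : Set G) (a z y y' : G) : Prop :=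
  Relation.ReflTransGen (fun p q => q ∈ common D a z ∧ Commute p q) y y'

theorem reach_mem {a z y x : G} (hy : y ∈ common D a z) (h : Reach D a z y x) : x ∈ common D a z := by
  induction h with
  | refl => exact hy
  | tail _ hs _ => exact hs.1

theorem reach_symm {a z y x : G} (hy : y ∈ common D a z) (h : Reach D a z y x) : Reach D a z x y := by
  induction h with
  | refl => exact Relation.ReflTransGen.refl
  | tail hu hs ih => exact Relation.ReflTransGen.head ⟨reach_mem hy hu, hs.2.symm⟩ ih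

theorem reach_trans {a z x y w : G} (h : Reach D a z x y) (h' : Reach D a z y w) : Reach D a z x w :=
  Relation.ReflTransGen.trans h h'

theorem reach_step {a z y x : G} (hx : x ∈ common D a z) (hc : Commute y x) : Reach D a z y x :=
  Relation.ReflTransGen.single ⟨hx, hc⟩

theorem reach_conj (htt : TT D) (g : G) {a z y x : G} (h : Reach D a z y x) :
    Reach D (g * a * g⁻¹) (g * z * g⁻¹) (g * y * g⁻¹) (g * x * g⁻¹) := by
  induction h with
  | refl => exact Relation.ReflTransGen.refl
  | tail _ hs ih => exact ih.tail ⟨htt.common_conj g hs.1, commute_conj.mpr hs.2⟩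

variable (h : Geo24 D) [Finite G]
include h

/-- the two moments for a set of common neighbours closed under commuting -/
theorem closed_moments {a y : G} (ha : a ∈ D) (hy : y ∈ D) (hn : ¬ Commute a y)
    {P : Finset G} (hP : ∀ r ∈ P, r ∈ common D a y)
    (hclosed : ∀ r ∈ P, ∀ x ∈ common D a y, Commute r x → x ∈ P) {r₀ : G} (hr₀ : r₀ ∈ P) :
    ∃ (T : Finset G) (x : G → ℕ), T.card = 28431 ∧ (∀ f, f ∈ T ↔ f ∈ nb D y ∧ f ∉ common D a y) ∧
      352 ≤ P.card ∧ (∀ f, f ∈ T → (x f ≠ 0 → ∃ r ∈ P, f ∈ nb D r) ∧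
        ((∀ r ∈ P, f ∈ nb D r) → x f = P.card)) ∧
      ∑ f ∈ T, x f = 3159 * P.card ∧ ∑ f ∈ T, x f ^ 2 = 351 * P.card ^ 2 := by
  classical
  haveI := Fintype.ofFinite G
  let S := (nb D y).toFinset
  let U := (common D a y).toFinset
  let R : G → G → Prop := fun r f => f ∈ nb D r
  have toSet : ∀ (T : Set G) (p : G → Prop) [DecidablePred p],
      (T.toFinset.filter p).card = {x | x ∈ T ∧ p x}.ncard := fun T p _ => by
    rw [← Set.ncard_coe_finset]
    congr 1
    ext x
    simp
  have hPU : P ⊆ U := fun r hr => Set.mem_toFinset.mpr (hP r hr)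
  have hUS : U ⊆ S := fun x hx => Set.mem_toFinset.mpr (Set.mem_toFinset.mp hx).2
  have hPS : P ⊆ S := hPU.trans hUS
  have slice : ∀ r ∈ P, P.filter (R r) = U.filter (R r) := by
    intro r hr
    ext f
    simp only [Finset.mem_filter]
    exact ⟨fun q => ⟨hPU q.1, q.2⟩,
      fun q => ⟨hclosed r hr f (Set.mem_toFinset.mp q.1) q.2.2.2, q.2⟩⟩
  obtain ⟨m1, m2⟩ := moments (S := S) (P := P) (R := R) (K := 3510) (lam := 693) (μ := 351)
    (t := 351) hPS
    (fun r q => q.2.1 rfl)
    (fun r hr f hf q => nb_symm (Set.mem_toFinset.mp hr).1 q)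
    (fun r hr => by
      rw [toSet]
      exact h.data.card_nb_nb hy (hP r hr).2)
    (fun r hr => by
      rw [slice r hr, toSet]
      exact h.data.card_slice ha hy hn (hP r hr))
    (fun r hr r' hr' q => by
      rw [toSet]
      exact h.data.card_nb_three hy (hP r hr).2 ⟨(hP r' hr').2, q⟩)
    (fun r hr r' hr' hne q => by
      rw [toSet]
      exact h.data.card_nb_far hy (hP r hr).2 (hP r' hr').2
        fun c => q ⟨(hP r' hr').1.1, fun e => hne e.symm, c⟩)
  have hSk : S.card = 31671 := by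
    rw [← h.data.card_nb hy]; exact (Set.ncard_eq_toFinset_card' _).symm
  have hUk : U.card = 3240 := by
    rw [← h.common a ha y hy hn]; exact (Set.ncard_eq_toFinset_card' _).symm
  have h352 : 352 ≤ P.card := by
    have hs : (P.filter (R r₀)).card = 351 := by
      rw [slice r₀ hr₀, toSet]; exact h.data.card_slice ha hy hn (hP r₀ hr₀)
    have hsub : insert r₀ (P.filter (R r₀)) ⊆ P :=
      Finset.insert_subset hr₀ (Finset.filter_subset _ _)
    have := Finset.card_le_card hsub
    rw [Finset.card_insert_of_notMem (fun q => (Finset.mem_filter.mp q).2.2.1 rfl), hs] at this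
    omega
  let x : G → ℕ := fun f => (P.filter fun r => R r f).card
  have hsplit : ∀ F : G → ℕ, (∀ f ∈ U \ P, F f = 0) → ∑ f ∈ S \ U, F f = ∑ f ∈ S \ P, F f := by
    intro F hF
    refine Finset.sum_subset (Finset.sdiff_subset_sdiff (Finset.Subset.refl S) hPU) fun f hf hf' => ?_
    refine hF f (Finset.mem_sdiff.mpr ⟨?_, (Finset.mem_sdiff.mp hf).2⟩)
    by_contra hfU
    exact hf' (Finset.mem_sdiff.mpr ⟨(Finset.mem_sdiff.mp hf).1, hfU⟩)
  have hzero : ∀ f ∈ U \ P, x f = 0 := by
    intro f hf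
    show (P.filter fun r => R r f).card = 0
    rw [Finset.card_eq_zero, Finset.filter_eq_empty_iff]
    intro r hr q
    exact (Finset.mem_sdiff.mp hf).2 (hclosed r hr f (Set.mem_toFinset.mp (Finset.mem_sdiff.mp hf).1) q.2.2)
  obtain ⟨j, hj⟩ : ∃ j, P.card = 352 + j := ⟨_, (Nat.add_sub_cancel' h352).symm⟩
  refine ⟨S \ U, x, ?_, ?_, h352, ?_, ?_, ?_⟩
  · have := Finset.card_sdiff_add_card_eq_card hUS
    omega
  · intro f
    simp [S, U]
  · refine fun f _ => ⟨fun hne => ?_, fun hall => ?_⟩
    · obtain ⟨r, hr⟩ := Finset.card_ne_zero.mp hne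
      exact ⟨r, (Finset.mem_filter.mp hr).1, (Finset.mem_filter.mp hr).2⟩
    · show (P.filter fun r => R r f).card = P.card
      rw [Finset.filter_eq_self.mpr fun r hr => hall r hr]
  · rw [hsplit x hzero]
    show ∑ f ∈ S \ P, (P.filter fun r => R r f).card = _
    omega
  · rw [hsplit (fun f => x f ^ 2) (fun f hf => by simp [hzero f hf])]
    show ∑ f ∈ S \ P, (P.filter fun r => R r f).card ^ 2 = _
    rw [show P.card - 1 - 351 = j by omega] at m2
    have : P.card * (3510 + (351 * 693 + j * 351)) = P.card * 351 ^ 2 + 351 * P.card ^ 2 := by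
      rw [hj]; ring
    omega

/-- (i) every component of the common neighbours meets every neighbour of `z` far from `a` -/
theorem reach_meets {a z w y : G} (ha : a ∈ D) (hz : z ∈ D) (hn : ¬ Commute a z) (hw : w ∈ nb D z)
    (hwn : ¬ Commute a w) (hy : y ∈ common D a z) :
    ∃ y', Reach D a z y y' ∧ y' ∈ common D a z ∧ y' ∈ nb D w := by
  classical
  haveI := Fintype.ofFinite G
  let P := Finset.univ.filter fun x => Reach D a z y x
  have hP : ∀ r ∈ P, r ∈ common D a z := fun r hr => reach_mem hy (Finset.mem_filter.mp hr).2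
  have hclosed : ∀ r ∈ P, ∀ x ∈ common D a z, Commute r x → x ∈ P := fun r hr x hx hc =>
    Finset.mem_filter.mpr ⟨Finset.mem_univ _, reach_trans (Finset.mem_filter.mp hr).2 (reach_step hx hc)⟩
  obtain ⟨T, x, hT, hmem, h352, hx, s1, s2⟩ := closed_moments h ha hz hn hP hclosed
    (r₀ := y) (Finset.mem_filter.mpr ⟨Finset.mem_univ _, Relation.ReflTransGen.refl⟩)
  have hb := support_bound (T := T) (x := x)
  rw [s1, s2] at hb
  have h28431 : 28431 ≤ (T.filter fun f => x f ≠ 0).card := by
    have : 9979281 * P.card ^ 2 ≤ (351 * (T.filter fun f => x f ≠ 0).card) * P.card ^ 2 := by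
      nlinarith
    have := Nat.le_of_mul_le_mul_right this (pow_pos (by omega) 2)
    omega
  have hwT : w ∈ T := (hmem w).mpr ⟨hw, fun q => hwn q.1.2.2⟩
  have heq : T.filter (fun f => x f ≠ 0) = T :=
    Finset.eq_of_subset_of_card_le (Finset.filter_subset _ _) (by omega)
  rw [← heq] at hwT
  obtain ⟨hwT', hne⟩ := Finset.mem_filter.mp hwT
  obtain ⟨r, hr, hwr⟩ := (hx w hwT').1 hne
  exact ⟨r, (Finset.mem_filter.mp hr).2, hP r hr, nb_symm (hP r hr).1.1 hwr⟩

/-- a neighbour of `a` and a far member have a common neighbour far from `a` -/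
theorem exists_far_common {a z q : G} (ha : a ∈ D) (hz : z ∈ D) (hn : ¬ Commute a z) (hq : q ∈ nb D a)
    (hqz : ¬ Commute q z) : ∃ w ∈ common D q z, ¬ Commute a w := by
  classical
  haveI := Fintype.ofFinite G
  by_contra hcon
  push Not at hcon
  have hsub : common D q z ⊆ common D a z := fun w hw =>
    ⟨⟨hw.1.1, fun e => hn (e ▸ hw.2.2.2.symm), hcon w hw⟩, hw.2⟩
  have heq : common D q z = common D a z := Set.eq_of_subset_of_ncard_le hsub
    (by rw [h.common a ha z hz hn, h.common q hq.1 z hz hqz]) (Set.toFinite _)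
  have hswap : common D z a = common D a z := Set.inter_comm _ _
  let P := (common D z a).toFinset
  obtain ⟨T, x, hT, hmem, -, hx, s1, s2⟩ := closed_moments h hz ha (fun c => hn c.symm) (P := P)
    (fun r hr => Set.mem_toFinset.mp hr) (fun r _ x hx _ => Set.mem_toFinset.mpr hx)
    (r₀ := (h.far z hz a ha (fun c => hn c.symm)).choose)
    (Set.mem_toFinset.mpr (h.far z hz a ha (fun c => hn c.symm)).choose_spec)
  have hPk : P.card = 3240 := by
    rw [← h.common z hz a ha (fun c => hn c.symm)]; exact (Set.ncard_eq_toFinset_card' _).symm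
  have hqT : q ∈ T := (hmem q).mpr ⟨hq, fun c => hqz c.1.2.2.symm⟩
  have hxq : x q = 3240 := by
    rw [← hPk]
    refine (hx q hqT).2 fun r hr => ?_
    have hr' : r ∈ common D q z := by rw [heq, ← hswap]; exact Set.mem_toFinset.mp hr
    exact nb_symm hq.1 hr'.1
  have hb := support_bound (T := T.erase q) (x := x)
  have e1 := Finset.add_sum_erase T x hqT
  have e2 := Finset.add_sum_erase T (fun f => x f ^ 2) hqT
  rw [s1, hxq, hPk] at e1
  simp only [hxq] at e2
  rw [s2, hPk] at e2
  have hc : ((T.erase q).filter fun f => x f ≠ 0).card ≤ 28430 := by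
    refine (Finset.card_filter_le _ _).trans ?_
    rw [Finset.card_erase_of_mem hqT, hT]
  have h1 : ∑ f ∈ T.erase q, x f = 10231920 := by omega
  have h2 : ∑ f ∈ T.erase q, x f ^ 2 = 3674160000 := by omega
  rw [h1, h2] at hb
  have := hb.trans (Nat.mul_le_mul_right _ hc)
  omega

/-- (ii) the commuting graph on the members far from `a` is connected -/
theorem far_connected {a : G} (ha : a ∈ D) {P : G → Prop}
    (step : ∀ z w, z ∈ D → ¬ Commute a z → w ∈ nb D z → ¬ Commute a w → P z → P w)
    {z₀ : G} (hz₀ : z₀ ∈ D) (hn₀ : ¬ Commute a z₀) (hP₀ : P z₀) : ∀ z ∈ D, ¬ Commute a z → P z := by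
  have htt := h.data.core.tt
  have move : ∀ q ∈ nb D a, ∀ z ∈ D, ¬ Commute a z → P z → P (q * z * q⁻¹) := by
    intro q hq z hz hn hPz
    by_cases hqz : Commute q z
    · rwa [hqz.eq, mul_inv_cancel_right]
    obtain ⟨w, hw, haw⟩ := exists_far_common h ha hz hn hq hqz
    have h1 : P w := step z w hz hn hw.2 haw hPz
    have hwfix : q * w * q⁻¹ = w := by rw [hw.1.2.2.eq, mul_inv_cancel_right]
    have h2 : q * z * q⁻¹ ∈ nb D w := by
      have := htt.nb_conj q (nb_symm hz hw.2)
      rwa [hwfix] at this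
    refine step w _ hw.1.1 haw h2 ?_ h1
    intro c
    have hc := (commute_conj (g := q⁻¹)).mpr c
    rw [show q⁻¹ * (q * z * q⁻¹) * q⁻¹⁻¹ = z by group, show q⁻¹ * a * q⁻¹⁻¹ = a by
      rw [((hq.2.2).symm.inv_left).eq]; group] at hc
    exact hn hc
  have far_conj : ∀ g, g ∈ nbSub D a → ∀ z, ¬ Commute a z → ¬ Commute a (g * z * g⁻¹) := by
    intro g hg z hn c
    have hga : g * a * g⁻¹ = a := mul_inv_eq_iff_eq_mul.mpr (nbSub_commute hg).symm.eq
    rw [← hga] at c
    exact hn (commute_conj.mp c)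
  have key : ∀ g ∈ nbSub D a, ∀ z ∈ D, ¬ Commute a z → (P z ↔ P (g * z * g⁻¹)) := by
    intro g hg
    induction hg using Subgroup.closure_induction with
    | mem q hq =>
      intro z hz hn
      refine ⟨move q hq z hz hn, fun hP => ?_⟩
      have := move q hq _ (htt.conj_mem q z hz) (far_conj q (Subgroup.subset_closure hq) z hn) hP
      rw [htt.inv_eq hq.1] at this
      rwa [show q * (q * z * q) * q = q * q * z * (q * q) by group, htt.sq q hq.1, one_mul, mul_one] at this
    | one => intro z _ _; simp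
    | mul g k hg hk ihg ihk =>
      intro z hz hn
      rw [ihk z hz hn, ihg _ (htt.conj_mem k z hz) (far_conj k hk z hn),
        show g * (k * z * k⁻¹) * g⁻¹ = g * k * z * (g * k)⁻¹ by group]
    | inv g hg ihg =>
      intro z hz hn
      rw [ihg _ (htt.conj_mem g⁻¹ z hz) (far_conj g⁻¹ (inv_mem hg) z hn),
        show g * (g⁻¹ * z * g⁻¹⁻¹) * g⁻¹ = z by group]
  intro z hz hn
  obtain ⟨v, hv⟩ := h.far a ha z hz hn
  obtain ⟨v₀, hv₀⟩ := h.far a ha z₀ hz₀ hn₀
  obtain ⟨g, ea, ez⟩ := h.data.conj_pair ha hz hn hv ha hz₀ hn₀ hv₀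
  have hg : g ∈ nbSub D a := by
    rw [← h.cent a ha]
    exact Subgroup.mem_centralizer_singleton_iff.mpr (mul_inv_eq_iff_eq_mul.mp ea)
  rw [← ez]
  exact (key g hg z₀ hz₀ hn₀).mp hP₀

/-- at most three components, at a pair whose common neighbours generate a group of shape `PΩ⁺(8,3):S₃` -/
theorem comps_le_of_shape {a z : G} (ha : a ∈ D) (hz : z ∈ D) (hn : ¬ Commute a z)
    (N : Subgroup (↥(Subgroup.closure (common D a z)) ⧸
      Subgroup.center ↥(Subgroup.closure (common D a z)))) (hsimple : IsSimpleGroup ↥N)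
    (h13 : 13 ∣ Nat.card ↥N) (hidx : N.index ∣ 6) :
    ∃ y : Fin 3 → G, (∀ i, y i ∈ common D a z) ∧ ∀ x ∈ common D a z, ∃ i, Reach D a z (y i) x := by
  classical
  haveI := Fintype.ofFinite G
  have htt := h.data.core.tt
  let cls : G → Finset G := fun y => Finset.univ.filter fun x => Reach D a z y x
  let C : Finset (Finset G) := (common D a z).toFinset.image cls
  have mem_cls : ∀ {y x}, x ∈ cls y ↔ Reach D a z y x := by simp [cls]
  have hC : ∀ {s}, s ∈ C ↔ ∃ y ∈ common D a z, cls y = s := by simp [C]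
  have cls_eq : ∀ {y y'}, y ∈ common D a z → Reach D a z y y' → cls y = cls y' := by
    intro y y' hy r
    ext x
    rw [mem_cls, mem_cls]
    exact ⟨fun q => reach_trans (reach_symm hy r) q, fun q => reach_trans r q⟩
  have hfix : ∀ g : ↥(Subgroup.closure (common D a z)), (g : G) * a * (g : G)⁻¹ = a ∧ (g : G) * z * (g : G)⁻¹ = z := fun g =>
    ⟨mul_inv_eq_iff_eq_mul.mpr
      (nbSub_commute (Subgroup.closure_mono Set.inter_subset_left g.2 : (g : G) ∈ nbSub D a)).symm.eq,
    mul_inv_eq_iff_eq_mul.mpr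
      (nbSub_commute (Subgroup.closure_mono Set.inter_subset_right g.2 : (g : G) ∈ nbSub D z)).symm.eq⟩
  have rconj : ∀ (g : ↥(Subgroup.closure (common D a z))) {y x}, Reach D a z y x →
      Reach D a z ((g : G) * y * (g : G)⁻¹) ((g : G) * x * (g : G)⁻¹) := by
    intro g y x r
    have := reach_conj htt (g : G) r
    rwa [(hfix g).1, (hfix g).2] at this
  have uconj : ∀ (g : ↥(Subgroup.closure (common D a z))) {y}, y ∈ common D a z → (g : G) * y * (g : G)⁻¹ ∈ common D a z := by
    intro g y hy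
    have := htt.common_conj (g : G) hy
    rwa [(hfix g).1, (hfix g).2] at this
  have cls_img : ∀ (g : ↥(Subgroup.closure (common D a z))) (y : G),
      (cls y).image (fun x => (g : G) * x * (g : G)⁻¹) = cls ((g : G) * y * (g : G)⁻¹) := by
    intro g y
    ext x
    rw [Finset.mem_image, mem_cls]
    constructor
    · rintro ⟨w, hw, rfl⟩
      exact rconj g (mem_cls.mp hw)
    · intro r
      refine ⟨(g : G)⁻¹ * x * (g : G), mem_cls.mpr ?_, by group⟩
      have := rconj g⁻¹ r
      simpa [mul_assoc] using this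
  have Cimg : ∀ (g : ↥(Subgroup.closure (common D a z))), ∀ s ∈ C, s.image (fun x => (g : G) * x * (g : G)⁻¹) ∈ C := by
    intro g s hs
    obtain ⟨y, hy, rfl⟩ := hC.mp hs
    exact hC.mpr ⟨_, uconj g hy, (cls_img g y).symm⟩
  let f : ↥(Subgroup.closure (common D a z)) → ↥C → ↥C := fun g s => ⟨_, Cimg g s.1 s.2⟩
  have fmul : ∀ g k s, f (g * k) s = f g (f k s) := fun g k s => Subtype.ext (by
    simp only [f, Finset.image_image]
    congr 1
    funext x
    simp [mul_assoc])
  have fone : ∀ s, f 1 s = s := fun s => Subtype.ext (by simp [f])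
  let ρ : ↥(Subgroup.closure (common D a z)) →* Equiv.Perm ↥C := MonoidHom.mk'
    (fun g => ⟨f g, f g⁻¹, fun s => by rw [← fmul, inv_mul_cancel, fone],
      fun s => by rw [← fmul, mul_inv_cancel, fone]⟩)
    (fun g k => Equiv.ext (fmul g k))
  have hfact : ∀ s : ↥C, ∃ y, ∃ hy : y ∈ common D a z,
      s = ⟨cls y, hC.mpr ⟨y, hy, rfl⟩⟩ := fun s => by
    obtain ⟨y, hy, e⟩ := hC.mp s.2
    exact ⟨y, hy, Subtype.ext e.symm⟩
  -- at most nine components
  have h9 : C.card ≤ 9 := by
    have h352 : ∀ y ∈ common D a z, 352 ≤ (cls y).card := fun y hy => by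
      obtain ⟨-, -, -, -, q, -⟩ := closed_moments h ha hz hn (P := cls y)
        (fun r hr => reach_mem hy (mem_cls.mp hr))
        (fun r hr x hx hc => mem_cls.mpr (reach_trans (mem_cls.mp hr) (reach_step hx hc)))
        (r₀ := y) (mem_cls.mpr Relation.ReflTransGen.refl)
      exact q
    have hdisj : (C : Set (Finset G)).PairwiseDisjoint id := by
      intro s hs t ht hne
      obtain ⟨y, hy, rfl⟩ := hC.mp hs
      obtain ⟨y', hy', rfl⟩ := hC.mp ht
      rw [Function.onFun, id_eq, id_eq, Finset.disjoint_left]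
      intro x hx hx'
      exact hne ((cls_eq hy (mem_cls.mp hx)).trans (cls_eq hy' (mem_cls.mp hx')).symm)
    have hsum : ∑ s ∈ C, s.card ≤ 3240 := by
      have e := Finset.card_biUnion (s := C) (t := id) hdisj
      simp only [id_eq] at e
      rw [← e, ← h.common a ha z hz hn, Set.ncard_eq_toFinset_card']
      refine Finset.card_le_card fun x hx => ?_
      obtain ⟨s, hs, hxs⟩ := Finset.mem_biUnion.mp hx
      obtain ⟨y, hy, rfl⟩ := hC.mp hs
      exact Set.mem_toFinset.mpr (reach_mem hy (mem_cls.mp hxs))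
    have : C.card * 352 ≤ ∑ s ∈ C, s.card := by
      rw [← smul_eq_mul]
      exact Finset.card_nsmul_le_sum _ _ _ fun s hs => by
        obtain ⟨y, hy, rfl⟩ := hC.mp hs
        exact h352 y hy
    omega
  -- the image has order dividing six
  have hZ : Subgroup.center ↥(Subgroup.closure (common D a z)) ≤ ρ.ker := by
    intro g hg
    refine MonoidHom.mem_ker.mpr (Equiv.ext fun s => ?_)
    obtain ⟨y, hy, rfl⟩ := hfact s
    refine Subtype.ext ((cls_img g y).trans ?_)
    have hc := congrArg Subtype.val (Subgroup.mem_center_iff.mp hg ⟨y, Subgroup.subset_closure hy⟩)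
    simp only [Subgroup.coe_mul] at hc
    rw [← hc, mul_inv_cancel_right]
    rfl
  let ρ' := QuotientGroup.lift (Subgroup.center ↥(Subgroup.closure (common D a z))) ρ hZ
  have hNker : N ≤ ρ'.ker := by
    haveI := hsimple
    let φ : ↥N →* Equiv.Perm ↥C := ρ'.comp N.subtype
    rcases (MonoidHom.normal_ker φ).eq_bot_or_eq_top with hb | ht
    · exfalso
      have hinj := (MonoidHom.ker_eq_bot_iff φ).mp hb
      have hd : Nat.card ↥N ∣ Nat.card (Equiv.Perm ↥C) := Subgroup.card_dvd_of_injective φ hinj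
      rw [Nat.card_eq_fintype_card (α := Equiv.Perm ↥C), Fintype.card_perm, Fintype.card_coe] at hd
      have h13' := (h13.trans hd).trans (Nat.factorial_dvd_factorial h9)
      revert h13'
      decide
    · intro n hn'
      have := (ht ▸ Subgroup.mem_top (⟨n, hn'⟩ : ↥N) : (⟨n, hn'⟩ : ↥N) ∈ φ.ker)
      exact this
  have hrange : Nat.card ↥ρ.range ∣ 6 := by
    have e : ρ'.range = ρ.range := by
      ext σ
      constructor
      · rintro ⟨q, rfl⟩
        obtain ⟨g, rfl⟩ := QuotientGroup.mk_surjective q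
        exact ⟨g, rfl⟩
      · rintro ⟨g, rfl⟩
        exact ⟨g, rfl⟩
    rw [← e, ← Subgroup.index_ker]
    exact (Subgroup.index_dvd_of_le hNker).trans hidx
  -- a member fixes only its own component
  have hinv : ∀ (r : G) (hr : r ∈ common D a z),
      ρ ⟨r, Subgroup.subset_closure hr⟩ * ρ ⟨r, Subgroup.subset_closure hr⟩ = 1 := by
    intro r hr
    rw [← map_mul, show (⟨r, Subgroup.subset_closure hr⟩ : ↥(Subgroup.closure (common D a z))) * ⟨r, Subgroup.subset_closure hr⟩ = 1 from
      Subtype.ext (htt.sq r hr.1.1), map_one]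
  have hfixed : ∀ (r : G) (hr : r ∈ common D a z) (s : ↥C),
      ρ ⟨r, Subgroup.subset_closure hr⟩ s = s ↔ (s : Finset G) = cls r := by
    intro r hr s
    obtain ⟨x, hx, rfl⟩ := hfact s
    rw [Subtype.ext_iff]
    show (cls x).image _ = cls x ↔ cls x = cls r
    rw [cls_img]
    show cls (r * x * r⁻¹) = cls x ↔ cls x = cls r
    by_cases hc : Commute r x
    · rw [hc.eq, mul_inv_cancel_right]
      exact ⟨fun _ => cls_eq hx (reach_step hr hc.symm), fun _ => rfl⟩
    rw [htt.inv_eq hr.1.1, htt.braid hr.1.1 hx.1.1 hc]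
    have e2 : ∀ w, x * w * x = x * w * x⁻¹ := fun w => by rw [htt.inv_eq hx.1.1]
    have hxL : x ∈ (Subgroup.closure (common D a z)) := Subgroup.subset_closure hx
    constructor
    · intro e
      have h2 := congrArg (fun s : Finset G => s.image fun u => x * u * x⁻¹) e
      simp only [show ∀ y, (cls y).image (fun u => x * u * x⁻¹) = cls (x * y * x⁻¹) from
        fun y => cls_img ⟨x, hxL⟩ y] at h2
      rw [← e2, ← e2, show x * (x * r * x) * x = r by
        rw [← mul_assoc x (x * r) x, htt.cancel hx.1.1, mul_assoc, htt.sq x hx.1.1, mul_one],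
        show x * x * x = x by rw [htt.sq x hx.1.1, one_mul]] at h2
      exact h2.symm
    · intro e
      have h2 := cls_img ⟨x, hxL⟩ r
      have h3 := cls_img ⟨x, hxL⟩ x
      rw [show cls r = cls x from e.symm, h3] at h2
      simp only [mul_inv_cancel_right] at h2
      rw [e2 r, ← h2]
  have hcard : C.card ≤ 3 := by
    by_contra hgt
    push Not at hgt
    choose rep hrep hrepeq using hfact
    let σ : ↥C → ↥ρ.range := fun s => ⟨ρ ⟨rep s, Subgroup.subset_closure (hrep s)⟩, _, rfl⟩
    have hs_fix : ∀ s t, (σ s).1 t = t ↔ t = s := fun s t => by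
      rw [hfixed _ (hrep s) t, Subtype.ext_iff]
      conv_rhs => rw [congrArg Subtype.val (hrepeq s)]
    have σ_inj : Function.Injective σ := fun s t e => by
      have := (hs_fix s s).mpr rfl
      rw [e] at this
      exact ((hs_fix t s).mp this)
    have σ_ne : ∀ s, σ s ≠ 1 := by
      intro s e
      obtain ⟨t, ht⟩ := Fintype.exists_ne_of_one_lt_card (by rw [Fintype.card_coe]; omega) s
      exact ht ((hs_fix s t).mp (by rw [e]; rfl))
    have hodd : Odd C.card := by
      obtain ⟨s⟩ : Nonempty ↥C := Fintype.card_pos_iff.mp (by rw [Fintype.card_coe]; omega)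
      have hmod := Equiv.Perm.card_compl_support_modEq (p := 2) (n := 1) (σ := (σ s).1)
        (by rw [pow_one, pow_two]; exact hinv _ (hrep s))
      rw [show (σ s).1.supportᶜ = {s} from by
        ext t
        simp [hs_fix]] at hmod
      rw [Finset.card_singleton, Fintype.card_coe] at hmod
      exact Nat.odd_iff.mpr hmod.symm
    have hlt : Fintype.card ↥C < Nat.card ↥ρ.range := by
      haveI := Fintype.ofFinite ↥ρ.range
      rw [Nat.card_eq_fintype_card]
      exact Fintype.card_lt_of_injective_of_notMem σ σ_inj (b := 1) (by rintro ⟨s, hs⟩; exact σ_ne s hs)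
    rw [Fintype.card_coe] at hlt
    have h6 := Nat.le_of_dvd (by norm_num) hrange
    have hC5 : C.card = 5 := by
      obtain ⟨k, hk⟩ := hodd
      omega
    have hR : Nat.card ↥ρ.range = 6 := by omega
    haveI : Fact (Nat.Prime 3) := ⟨by norm_num⟩
    obtain ⟨g, hg⟩ := exists_prime_orderOf_dvd_card' (G := ↥ρ.range) 3 (by rw [hR]; norm_num)
    haveI := Fintype.ofFinite ↥ρ.range
    have hsurj : ∀ b : ↥ρ.range, b ≠ 1 → ∃ s, σ s = b := by
      have himg : Finset.univ.image σ = Finset.univ.erase (1 : ↥ρ.range) := by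
        refine Finset.eq_of_subset_of_card_le ?_ ?_
        · intro b hb
          obtain ⟨s, -, rfl⟩ := Finset.mem_image.mp hb
          exact Finset.mem_erase.mpr ⟨σ_ne s, Finset.mem_univ _⟩
        · rw [Finset.card_erase_of_mem (Finset.mem_univ _), Finset.card_image_of_injective _ σ_inj,
            Finset.card_univ, Finset.card_univ, Fintype.card_coe, ← Nat.card_eq_fintype_card, hR, hC5]
      intro b hb
      have : b ∈ Finset.univ.image σ := by rw [himg]; exact Finset.mem_erase.mpr ⟨hb, Finset.mem_univ _⟩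
      obtain ⟨s, -, rfl⟩ := Finset.mem_image.mp this
      exact ⟨s, rfl⟩
    obtain ⟨s, rfl⟩ := hsurj g (fun e => by rw [e, orderOf_one] at hg; omega)
    have hsq : σ s * σ s = 1 := Subtype.ext (hinv _ (hrep s))
    have := orderOf_dvd_of_pow_eq_one (x := σ s) (n := 2) (by rw [pow_two]; exact hsq)
    rw [hg] at this
    omega
  obtain ⟨y₀, hy₀⟩ := h.far a ha z hz hn
  choose rep hrep hrepeq using hfact
  have hne : Nonempty (↥C) := ⟨⟨cls y₀, hC.mpr ⟨y₀, hy₀, rfl⟩⟩⟩
  obtain ⟨e⟩ : Nonempty (↥C ↪ Fin 3) := Function.Embedding.nonempty_of_card_le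
    (by rw [Fintype.card_coe, Fintype.card_fin]; exact hcard)
  refine ⟨fun i => rep (Function.invFun e i), fun i => hrep _, fun x hx => ?_⟩
  refine ⟨e ⟨cls x, hC.mpr ⟨x, hx, rfl⟩⟩, ?_⟩
  simp only [Function.leftInverse_invFun e.injective _]
  have := congrArg Subtype.val (hrepeq ⟨cls x, hC.mpr ⟨x, hx, rfl⟩⟩)
  simp only at this
  refine mem_cls.mp ?_
  rw [← this]
  exact mem_cls.mpr Relation.ReflTransGen.refl

/-- (iii) the common neighbours of a non-commuting pair fall into at most three components -/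
theorem comps_le (h24 : Cfsg.IsOfTypeM24 G D) {a z : G} (ha : a ∈ D) (hz : z ∈ D) (hn : ¬ Commute a z) :
    ∃ y : Fin 3 → G, (∀ i, y i ∈ common D a z) ∧ ∀ x ∈ common D a z, ∃ i, Reach D a z (y i) x := by
  obtain ⟨-, d, hd, c, hc, hdc, -, N, hN, ⟨eN⟩, ⟨eq⟩⟩ := h24
  haveI := hN
  have hsimple : @IsSimpleGroup ↥N _ := by
    haveI := Cfsg.Agent.S0296.result (F := ZMod 3) 4 le_rfl
    exact eN.isSimpleGroup
  have hN' : Nat.card ↥N = 4952179814400 := by
    rw [Nat.card_congr eN.toEquiv]
    have := S0293.result (F := ZMod 3) (q := 3) (ZMod.card 3) 4 le_rfl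
    norm_num [Finset.prod_range_succ] at this
    omega
  have hq : N.index = 6 := by
    rw [Subgroup.index, Nat.card_congr eq.toEquiv, Nat.card_eq_fintype_card, Fintype.card_perm,
      Fintype.card_fin]
    rfl
  obtain ⟨y, hy, hcov⟩ := comps_le_of_shape h hd hc hdc N hsimple
    ((show 13 ∣ 4952179814400 by norm_num).trans (dvd_of_eq hN'.symm)) (dvd_of_eq hq)
  obtain ⟨v, hv⟩ := h.far a ha z hz hn
  obtain ⟨v', hv'⟩ := h.far d hd c hc hdc
  obtain ⟨g, ed, ec⟩ := h.data.conj_pair ha hz hn hv hd hc hdc hv'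
  have htt := h.data.core.tt
  refine ⟨fun i => g * y i * g⁻¹, fun i => ?_, fun x hx => ?_⟩
  · have := htt.common_conj g (hy i)
    rwa [ed, ec] at this
  · have hx' := htt.common_conj g⁻¹ hx
    rw [← ed, ← ec, show g⁻¹ * (g * d * g⁻¹) * g⁻¹⁻¹ = d by group,
      show g⁻¹ * (g * c * g⁻¹) * g⁻¹⁻¹ = c by group] at hx'
    obtain ⟨i, hi⟩ := hcov _ hx'
    refine ⟨i, ?_⟩
    have := reach_conj htt g hi
    rwa [ed, ec, show g * (g⁻¹ * x * g⁻¹⁻¹) * g⁻¹ = x by group] at this

end Cfsg.Agent.H33.Fi24Rec
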