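import Cfsg.Agent.H41.Fi24Rec.Local
import Cfsg.Agent.H3.Fischer.Fi24Simple
import Cfsg.Agent.H93.Exist.Fi24Facts
import Cfsg.Agent.H93.Invol24
import Cfsg.Agent.H61.M24.Count

/-!
Large Fischer type: an embedded commutator of Fi24 containing the centraliser of a non-central involution
`t` of the core is the whole group.

The commutator has two classes of involutions, so those of the image are conjugate there to `t` or to `z`.
This puts the core and then the centraliser of `z` in the image; a conjugate of `z` and `t` have a common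
commuting involution, so every conjugate of `z` is in the image and is conjugate there to `z`.
-/

set_option autoImplicit false
set_option maxRecDepth 4000

namespace Cfsg.Agent.H33.Fi24Rec

open Subgroup Cfsg.Spor
open Cfsg.Agent.H41.SUSix Cfsg.Agent.H41.LFi Cfsg.Agent.H18.LFiFi22
open Cfsg.Agent.H93.Exist (gen24 gen24_conj gen24_comm parity)
open Cfsg.Agent.H41.Fi24Rec (Facts)

universe u

/-- an involution of the commutator of Fi24 not conjugate there to `a * l` determines its class -/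
theorem fi24_conj_four (a1 : ↥(commutator Fi24))
    (ha1 : (a1 : Fi24) = gen24 .a * gen24 .l) (ha : a1 ≠ 1)
    {x y : ↥(commutator Fi24)} (hx : x * x = 1) (hx1 : x ≠ 1) (hy : y * y = 1) (hy1 : y ≠ 1)
    (nx : ¬ IsConj a1 x) (ny : ¬ IsConj a1 y) : IsConj x y := by
  classical
  have : Finite Fi24 := Cfsg.Agent.H25.Fi24.finite_X
  have hc := Cfsg.Agent.H93.Exist.Core24.counts
  have hin := hc.input
  set D : Set Fi24 := conjugatesOf (gen24 .l)
  have hD : Cfsg.IsThreeTranspositionGroup D :=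
    ⟨hin.cls.1, fun g y hy => hin.tt.conj_mem g y hy, hin.cls.2.2⟩
  have hg := Cfsg.Agent.H61.M24.geo24 hD hin.prim hin.type24
  have hcore := hg.data.core
  have hres : ∀ a ∈ D, H93.M23Data (H93.resSet D a) ∧ H93.Geo23 (H93.resSet D a) := fun a ha =>
    ⟨(hg.data.res a ha).2, (hg.data.res a ha).1⟩
  have htwo : ∀ a ∈ D, ∀ k : ↥(H93.nbSub D a), k ∈ Subgroup.center ↥(H93.nbSub D a) →
      (k : Fi24) = 1 ∨ (k : Fi24) = a := fun a ha k hk => (hg.center_iff ha k).mp hk
  obtain ⟨σ, hσ⟩ := parity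
  have hn : Multiplicative.ofAdd (1 : ZMod 2) ≠ 1 := by decide
  have hσD : ∀ d ∈ D, σ d = Multiplicative.ofAdd 1 := by
    intro d hd
    obtain ⟨c, rfl⟩ := isConj_iff.1 (show IsConj (gen24 .l) d from hd)
    rw [map_mul, map_mul, map_inv, mul_inv_cancel_comm, hσ]
  have hker : ∀ g : Fi24, g ∈ commutator Fi24 ↔ σ g = 1 := fun g =>
    ⟨fun h => MonoidHom.mem_ker.1 (Abelianization.commutator_subset_ker σ h), fun h => by
      rcases H3.Fischer.Fi24Simple.mem_commutator_or hc g with hg' | hg'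
      · exact hg'
      · have := MonoidHom.mem_ker.1 (Abelianization.commutator_subset_ker σ hg')
        rw [map_mul, h, one_mul, hσ] at this
        exact absurd this hn⟩
  have two : ∀ v : Multiplicative (ZMod 2), v = 1 ∨ v = Multiplicative.ofAdd 1 := by decide
  -- a list of even length for an involution of the commutator
  let Rep : ℕ → Fi24 → Prop := fun m w => ∃ l : List Fi24, l.Nodup ∧ l.length = m ∧ (∀ a ∈ l, a ∈ D) ∧
    (∀ a ∈ l, ∀ b ∈ l, Commute a b) ∧ l.prod = w
  have hlist : ∀ w : ↥(commutator Fi24), w * w = 1 → w ≠ 1 → Rep 2 w ∨ Rep 4 w := by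
    intro w hw hw1
    obtain ⟨l, lm, lc, lp⟩ := H93.Upper24.invol_list hcore hg.cent htwo hres hin.hl
      (t := (w : Fi24)) (congrArg Subtype.val hw)
    obtain ⟨l', hnd, hlen, hm, hc', hp⟩ :=
      H93.Upper24.shorten hcore hg.data.ind htwo hres l.length l le_rfl lm lc
    have hs := (hker _).1 w.2
    rw [← lp, ← hp, map_list_prod,
      show l'.map σ = List.replicate l'.length (Multiplicative.ofAdd (1 : ZMod 2)) from
        List.eq_replicate_iff.2 ⟨List.length_map _, fun b hb => by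
          obtain ⟨d, hd, rfl⟩ := List.mem_map.1 hb
          exact hσD d (hm d hd)⟩, List.prod_replicate] at hs
    have h04 : l'.length = 0 ∨ l'.length = 1 ∨ l'.length = 2 ∨ l'.length = 3 ∨ l'.length = 4 := by
      omega
    rcases h04 with h | h | h | h | h
    · refine absurd (Subtype.ext ?_) hw1
      rw [← lp, ← hp, List.eq_nil_of_length_eq_zero h]; rfl
    · rw [h] at hs; exact absurd hs (by decide)
    · exact Or.inl ⟨l', hnd, h, hm, hc', hp.trans lp⟩
    · rw [h] at hs; exact absurd hs (by decide)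
    · exact Or.inr ⟨l', hnd, h, hm, hc', hp.trans lp⟩
  -- equal lengths are conjugate inside the commutator
  have fuse : ∀ (m : ℕ) (u v : ↥(commutator Fi24)), 1 ≤ m → m ≤ 4 → Rep m u → Rep m v → IsConj u v := by
    rintro m u v h1 h4 ⟨l, hnd, hl, hm, hc', hp⟩ ⟨l', hnd', hl', hm', hc'', hp'⟩
    obtain ⟨g, hgc⟩ := isConj_iff.1
      (H93.Upper24.conj_prod hcore hres h1 h4 hnd hnd' hl hl' hm hm' hc' hc'')
    rw [hp, hp'] at hgc
    obtain ⟨b, r, rfl⟩ := List.exists_cons_of_ne_nil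
      (fun e : l = [] => by rw [e] at hl; simp at hl; omega)
    obtain ⟨g', hg', e'⟩ : ∃ g', σ g' = 1 ∧ g' * (u : Fi24) * g'⁻¹ = v := by
      rcases two (σ g) with h | h
      · exact ⟨g, h, hgc⟩
      · refine ⟨g * b, by rw [map_mul, h, hσD b (hm b (by simp))]; decide, ?_⟩
        have hb : Commute b (u : Fi24) :=
          hp ▸ Commute.list_prod_right _ _ fun d hd => hc' b (by simp) d hd
        rw [show g * b * u * (g * b)⁻¹ = g * (b * u * b⁻¹) * g⁻¹ by group, hb.eq,
          mul_inv_cancel_right, hgc]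
    exact isConj_iff.2 ⟨⟨g', (hker g').2 hg'⟩, Subtype.ext e'⟩
  -- the length of the list of `a1`
  have hal : coxLabel Fi24.edges Fi24.Gen.a Fi24.Gen.l = 2 := by decide
  have r1 : Rep 2 a1 := by
    have hne : gen24 .a ≠ gen24 .l := fun e => ha (Subtype.ext (by
      rw [ha1, e, Cfsg.Agent.H93.Exist.gen24_sq]; rfl))
    have hmem : gen24 Fi24.Gen.a ∈ D :=
      (gen24_conj (y := Fi24.Gen.l) (z := Fi24.Gen.k) (by decide)).trans
        (gen24_conj (y := Fi24.Gen.k) (z := Fi24.Gen.a) (by decide))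
    have hcm : Commute (gen24 .a) (gen24 .l) := gen24_comm hal
    refine ⟨[gen24 .a, gen24 .l], by simp [hne], rfl, ?_, ?_, by simp [ha1]⟩
    · simp only [List.mem_cons, List.not_mem_nil, or_false, forall_eq_or_imp, forall_eq]
      exact ⟨hmem, hin.hl⟩
    · simp only [List.mem_cons, List.not_mem_nil, or_false, forall_eq_or_imp, forall_eq]
      exact ⟨⟨Commute.refl _, hcm⟩, hcm.symm, Commute.refl _⟩
  have four : ∀ w : ↥(commutator Fi24), w * w = 1 → w ≠ 1 → ¬ IsConj a1 w → Rep 4 w :=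
    fun w hw hw1 nw => (hlist w hw hw1).resolve_left fun r =>
      nw (fuse 2 a1 w (by norm_num) (by norm_num) r1 r)
  exact fuse 4 x y (by norm_num) le_rfl (four x hx hx1 nx) (four y hy hy1 ny)

/-- two non-conjugate involutions commute with a third -/
theorem exists_between {G : Type*} [Group G] [Finite G] {x y : G} (hx : x * x = 1) (hy : y * y = 1)
    (h : ¬ IsConj x y) : ∃ u : G, u * u = 1 ∧ u ≠ 1 ∧ Commute u x ∧ Commute u y := by
  set r := x * y with hr
  have hinvx : x * r * x⁻¹ = r⁻¹ := by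
    rw [hr, mul_inv_rev, inv_eq_of_mul_eq_one_right hx, inv_eq_of_mul_eq_one_right hy, ← mul_assoc,
      hx, one_mul]
  have hinvy : y * r * y⁻¹ = r⁻¹ := by
    rw [hr, mul_inv_rev, inv_eq_of_mul_eq_one_right hx, inv_eq_of_mul_eq_one_right hy]
    rw [mul_assoc y, mul_assoc x, hy, mul_one]
  have hinv : ∀ n : ℕ, x * r ^ n * x⁻¹ = (r ^ n)⁻¹ := fun n => by
    rw [← conj_pow, hinvx, inv_pow]
  rcases Nat.even_or_odd (orderOf r) with ⟨n, hn⟩ | ⟨n, hn⟩
  · have hpos : 0 < orderOf r := orderOf_pos r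
    refine ⟨r ^ n, by rw [← pow_add, ← hn, pow_orderOf_eq_one], fun e => ?_, ?_, ?_⟩
    · have := Nat.le_of_dvd (by omega) (orderOf_dvd_of_pow_eq_one e)
      omega
    · have e2 : (r ^ n)⁻¹ = r ^ n := inv_eq_of_mul_eq_one_right (by rw [← pow_add, ← hn, pow_orderOf_eq_one])
      exact (mul_inv_eq_iff_eq_mul.1 ((hinv n).trans e2)).symm
    · have e2 : (r ^ n)⁻¹ = r ^ n := inv_eq_of_mul_eq_one_right (by rw [← pow_add, ← hn, pow_orderOf_eq_one])
      have : y * r ^ n * y⁻¹ = (r ^ n)⁻¹ := by rw [← conj_pow, hinvy, inv_pow]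
      exact (mul_inv_eq_iff_eq_mul.1 (this.trans e2)).symm
  · refine absurd (isConj_iff.2 ⟨r ^ n, ?_⟩) h
    -- `r ^ n * x * r ^ (-n) = r ^ (2 n) * x = r⁻¹ * x = y`
    have h1 : r ^ (2 * n) = r⁻¹ := eq_inv_of_mul_eq_one_left (by
      rw [← pow_succ, ← hn, pow_orderOf_eq_one])
    calc r ^ n * x * (r ^ n)⁻¹ = r ^ n * x * (x * r ^ n * x⁻¹) := by rw [hinv]
      _ = r ^ n * (x * x) * r ^ n * x⁻¹ := by group
      _ = r ^ (2 * n) * x⁻¹ := by rw [hx, mul_one, ← pow_add, two_mul]
      _ = y := by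
        rw [h1, hr, mul_inv_rev, inv_eq_of_mul_eq_one_right hx, inv_eq_of_mul_eq_one_right hy,
          mul_assoc, hx, mul_one]

/-- an embedded commutator of Fi24 with the centraliser of `t` is the whole group -/
theorem top_of_embedding {G : Type u} [Group G] [Finite G] {z : G} {Q : Subgroup G}
    (S : LSetup z Q)
    (_pair : ∀ g : G, g * z * g⁻¹ ∈ Q → g * z * g⁻¹ ≠ z → H92.PairSetting Q z g)
    {t e : G} {K : Subgroup G} (F : Facts t e K) (H : Hyp S t e) (hzt : ¬ IsConj z t)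
    (f : ↥(commutator Fi24) →* G) (hf : Function.Injective f) (a1 : ↥(commutator Fi24))
    (ha1 : (a1 : Fi24) = gen24 .a * gen24 .l) (ht : f a1 = t)
    (hC : centralizer ({t} : Set G) ≤ f.range) : f.range = ⊤ := by
  set I := f.range
  have inI : ∀ x : G, Commute x t → x ∈ I := fun x hx => hC (mem_centralizer_singleton_iff.2 hx.eq)
  have ha : a1 ≠ 1 := fun e1 => F.t1 (by rw [← ht, e1, map_one])
  obtain ⟨y, hy⟩ := inI z (show Commute z t from H.tz.symm)
  have nconj : ∀ {x : ↥(commutator Fi24)}, f x = z → ¬ IsConj a1 x := fun {x} hx hcj =>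
    hzt (by rw [← hx, ← ht]; exact (f.map_isConj hcj).symm)
  -- the involutions of the image
  have classes : ∀ u ∈ I, u * u = 1 → u ≠ 1 →
      (∃ i ∈ I, i * t * i⁻¹ = u) ∨ ∃ i ∈ I, i * z * i⁻¹ = u := by
    rintro _ ⟨x, rfl⟩ hu hu1
    by_cases hcj : IsConj a1 x
    · obtain ⟨c, rfl⟩ := isConj_iff.1 hcj
      exact Or.inl ⟨f c, ⟨c, rfl⟩, by rw [map_mul, map_mul, map_inv, ht]⟩
    · have hx : x * x = 1 := hf (by rw [map_mul, hu, map_one])
      have hy2 : y * y = 1 := hf (by rw [map_mul, hy, S.z_sq, map_one])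
      have hy1 : y ≠ 1 := fun e1 => S.z_ne (by rw [← hy, e1, map_one])
      obtain ⟨c, rfl⟩ := isConj_iff.1 (fi24_conj_four a1 ha1 ha hy2 hy1 hx
        (fun e1 => hu1 (by rw [e1, map_one])) (nconj hy) hcj)
      exact Or.inr ⟨f c, ⟨c, rfl⟩, by rw [map_mul, map_mul, map_inv, hy]⟩
  -- those conjugate to `t` have their centraliser in the image
  have classT : ∀ u ∈ I, IsConj t u → ∃ i ∈ I, i * t * i⁻¹ = u := by
    intro u hu hcj
    obtain ⟨g, rfl⟩ := isConj_iff.1 hcj
    refine (classes _ hu ?_ ?_).resolve_right ?_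
    · rw [show g * t * g⁻¹ * (g * t * g⁻¹) = g * (t * t) * g⁻¹ by group, F.tt, mul_one, mul_inv_cancel]
    · intro h
      exact F.t1 (by rw [show t = g⁻¹ * (g * t * g⁻¹) * g by group, h, mul_one, inv_mul_cancel])
    · rintro ⟨i, -, hi⟩
      exact hzt ((isConj_iff.2 ⟨i, hi⟩).trans hcj.symm)
  have centT : ∀ {i x : G}, i ∈ I → Commute x (i * t * i⁻¹) → x ∈ I := by
    intro i x hi hx
    have h1 : Commute (i⁻¹ * x * i) t := by
      have := (Commute.conj_iff i⁻¹).2 hx
      rwa [inv_inv, show i⁻¹ * (i * t * i⁻¹) * i = t by group] at this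
    rw [show x = i * (i⁻¹ * x * i) * i⁻¹ by group]
    exact mul_mem (mul_mem hi (inI _ h1)) (inv_mem hi)
  -- the core
  have hQ : ∀ q ∈ Q, q ∈ I := by
    obtain ⟨a, haQ, -, hat, hae, -, -⟩ := H.exists_alpha
    obtain ⟨i, hi, hie⟩ := classT e (inI e (show Commute e t from H.te.symm)) F.conj_e
    intro q hq
    rcases zmod2_cases (pol (S.π t) (S.π q)) with h | h
    · exact inI q ((S.comm_iff H.htQ hq).2 h).symm
    rcases zmod2_cases (pol (S.π e) (S.π q)) with h' | h'
    · exact centT hi (hie ▸ ((S.comm_iff H.heQ hq).2 h').symm)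
    have hpa : pol (S.π e) (S.π a) = 1 := by
      rcases zmod2_cases (pol (S.π e) (S.π a)) with h0 | h1
      · exfalso
        rw [← (S.comm_iff H.heQ haQ).2 h0, mul_inv_cancel_right] at hae
        exact S.z_ne (mul_eq_right.1 hae.symm)
      · exact h1
    have hqa : q * a ∈ I := centT hi (hie ▸ ((S.comm_iff H.heQ (mul_mem hq haQ)).2 (by
      rw [S.π_mul q hq a haQ, pol_add_right, h', hpa]; rfl)).symm)
    have := mul_mem hqa (inv_mem (inI a hat))
    rwa [mul_inv_cancel_right] at this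
  -- the centraliser of `z`
  have hz : ∀ c : G, Commute c z → c ∈ I := by
    intro c hc
    obtain ⟨i, hi, hie⟩ := classT _ (hQ _ (S.norm c hc.eq t H.htQ)) (isConj_iff.2 ⟨c, rfl⟩)
    have h1 : Commute (i⁻¹ * c) t := by
      show i⁻¹ * c * t = t * (i⁻¹ * c)
      rw [show i⁻¹ * c * t = i⁻¹ * (c * t * c⁻¹) * c by group, ← hie]
      group
    have := mul_mem hi (inI _ h1)
    rwa [mul_inv_cancel_left] at this
  -- all of the group
  refine eq_top_iff.2 fun g _ => ?_
  have hx : g * z * g⁻¹ * (g * z * g⁻¹) = 1 := by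
    rw [show g * z * g⁻¹ * (g * z * g⁻¹) = g * (z * z) * g⁻¹ by group, S.z_sq, mul_one, mul_inv_cancel]
  obtain ⟨u, hu2, hu1, hux, hut⟩ := exists_between hx F.tt
    fun h => hzt ((isConj_iff.2 ⟨g, rfl⟩ : IsConj z (g * z * g⁻¹)).trans h)
  have hxI : g * z * g⁻¹ ∈ I := by
    rcases classes u (inI u hut) hu2 hu1 with ⟨i, hi, rfl⟩ | ⟨i, hi, rfl⟩
    · exact centT hi hux.symm
    · have h1 : Commute (i⁻¹ * (g * z * g⁻¹) * i) z := by
        have := (Commute.conj_iff i⁻¹).2 hux.symm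
        rwa [inv_inv, show i⁻¹ * (i * z * i⁻¹) * i = z by group] at this
      rw [show g * z * g⁻¹ = i * (i⁻¹ * (g * z * g⁻¹) * i) * i⁻¹ by group]
      exact mul_mem (mul_mem hi (hz _ h1)) (inv_mem hi)
  have hz1 : g * z * g⁻¹ ≠ 1 := fun h =>
    S.z_ne (by rw [show z = g⁻¹ * (g * z * g⁻¹) * g by group, h, mul_one, inv_mul_cancel])
  rcases classes _ hxI hx hz1 with ⟨i, -, h⟩ | ⟨i, hi, h⟩
  · exact absurd ((isConj_iff.2 ⟨g, rfl⟩ : IsConj z (g * z * g⁻¹)).trans (isConj_iff.2 ⟨i, h⟩).symm) hzt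
  · have h1 : Commute (i⁻¹ * g) z := by
      show i⁻¹ * g * z = z * (i⁻¹ * g)
      rw [show i⁻¹ * g * z = i⁻¹ * (g * z * g⁻¹) * g by group, ← h]
      group
    have := mul_mem hi (hz _ h1)
    rwa [mul_inv_cancel_left] at this

end Cfsg.Agent.H33.Fi24Rec
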